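import Groth.Agent.Lib.Compl.Complete
import Groth.Agent.Lib.Hens.Misc
import Groth.Agent.Lib.H2Alg.PSHom
import Mathlib.RingTheory.Noetherian.OfPrime
import Mathlib.RingTheory.Filtration
import Mathlib.RingTheory.MvPowerSeries.Rename

/-!
# Square-zero extensions of complete Noetherian local rings
-/

set_option autoImplicit false

universe u v w w'

open IsLocalRing

namespace Groth.Agent.SqZeroExt1

theorem isNoetherianRing_of_nilpotent_ideal {E : Type w'} [CommRing E] (N : Ideal E) (hfg : N.FG)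
    (hnil : IsNilpotent N) [IsNoetherianRing (E ⧸ N)] : IsNoetherianRing E := by
  refine IsNoetherianRing.of_prime fun P hP => ?_
  have hNP : N ≤ P := by
    obtain ⟨k, hk⟩ := hnil
    intro x hx
    have := Ideal.pow_mem_pow hx k
    rw [hk] at this
    exact hP.mem_of_pow_mem k (by rw [(Ideal.mem_bot).1 this]; exact P.zero_mem)
  refine Ideal.fg_of_fg_map_of_fg_inf_ker_of_surjective (f := Ideal.Quotient.mk N)
    (IsNoetherian.noetherian _) ?_ Ideal.Quotient.mk_surjective
  rw [Ideal.mk_ker, inf_eq_right.2 hNP]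
  exact hfg

/-- Extension of a complete ring by a square-zero ideal. -/
theorem isAdicComplete_of_sq_zero {E : Type w'} [CommRing E] [IsNoetherianRing E] (N J : Ideal E)
    (hN : N ^ 2 = ⊥) (hJ : J ≤ (⊥ : Ideal E).jacobson) [IsAdicComplete (J.map (Ideal.Quotient.mk N)) (E ⧸ N)] :
    IsAdicComplete J E := by
  haveI : IsHausdorff J E := IsHausdorff.of_le_jacobson J E hJ
  haveI : Module.Finite E N.Cotangent := Module.Finite.of_surjective N.toCotangent (Ideal.toCotangent_surjective N)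
  haveI : Module.Finite (E ⧸ N) N.Cotangent := Module.Finite.of_restrictScalars_finite E _ _
  haveI := Groth.Agent.Compl.isAdicComplete_of_finite (J.map (Ideal.Quotient.mk N)) N.Cotangent
  haveI : IsAdicComplete J N.Cotangent := (IsAdicComplete.map_algebraMap_iff (S := E ⧸ N) _ _).1 ‹_›
  have hbij : Function.Bijective N.toCotangent := by
    refine ⟨(injective_iff_map_eq_zero _).2 fun x hx => ?_, Ideal.toCotangent_surjective N⟩
    rw [Ideal.toCotangent_eq_zero, hN, Ideal.mem_bot] at hx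
    exact Subtype.ext hx
  let e : N ≃ₗ[E] N.Cotangent := LinearEquiv.ofBijective N.toCotangent hbij
  haveI hNc : IsAdicComplete J N :=
    Groth.Agent.Hens.isAdicComplete_of_retract J e.toLinearMap e.symm.toLinearMap (by ext x; simp)
  refine { toIsHausdorff := inferInstance, toIsPrecomplete := ⟨fun s hs => ?_⟩ }
  have hs' : ∀ {m n}, m ≤ n → s m - s n ∈ J ^ m := fun {m n} h => by
    have := hs h
    rw [SModEq.sub_mem, smul_eq_mul, Ideal.mul_top] at this
    exact this
  haveI hQc : IsAdicComplete J (E ⧸ N) := (IsAdicComplete.map_algebraMap_iff (S := E ⧸ N) _ _).1 ‹_›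
  obtain ⟨a, ha⟩ := hQc.toIsPrecomplete.prec' (fun n => Ideal.Quotient.mk N (s n)) fun {m n} h =>
    ((hs h).map (Submodule.mkQ N)).mono (by
      rw [Submodule.map_smul'']; exact Submodule.smul_mono le_rfl le_top)
  obtain ⟨e₀, rfl⟩ := Ideal.Quotient.mk_surjective a
  have hdec : ∀ n, ∃ ν ∈ N, s n - e₀ - ν ∈ J ^ n := by
    intro n
    have h1 := ha n
    rw [SModEq.sub_mem] at h1
    have h2 : (J ^ n • ⊤ : Submodule E (E ⧸ N)) ≤ Submodule.map (Submodule.mkQ N) ((J ^ n : Ideal E) : Submodule E E) := by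
      refine Submodule.smul_le.2 fun j hj m _ => ?_
      obtain ⟨m, rfl⟩ := Ideal.Quotient.mk_surjective m
      exact ⟨j * m, Ideal.mul_mem_right _ _ hj, rfl⟩
    obtain ⟨j, hj, hje⟩ := h2 h1
    refine ⟨s n - e₀ - j, ?_, by simpa using hj⟩
    rw [← Ideal.Quotient.eq_zero_iff_mem, map_sub, map_sub]
    exact sub_eq_zero.2 hje.symm
  choose ν hν hνJ using hdec
  obtain ⟨c, hc⟩ := Ideal.exists_pow_inf_eq_pow_smul J N
  have hAR : ∀ n, ∀ x ∈ N, x ∈ J ^ (n + c) → x ∈ J ^ n • N := by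
    intro n x hx hxJ
    have h : x ∈ (J ^ (n + c) • ⊤ : Submodule E E) ⊓ N := ⟨by simpa using hxJ, hx⟩
    rw [hc (n + c) (Nat.le_add_left c n), Nat.add_sub_cancel] at h
    exact Submodule.smul_mono le_rfl inf_le_right h
  have hsmul : ∀ (n : ℕ) (x : N), x ∈ (J ^ n • ⊤ : Submodule E N) ↔ (x : E) ∈ J ^ n • N := by
    intro n x
    have h := Submodule.map_smul'' (J ^ n) (⊤ : Submodule E N) N.subtype
    rw [Submodule.map_top, Submodule.range_subtype] at h
    rw [← h]
    exact ⟨fun hx => ⟨x, hx, rfl⟩, fun ⟨y, hy, hyx⟩ => Subtype.ext hyx ▸ hy⟩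
  obtain ⟨L, hL⟩ := hNc.toIsPrecomplete.prec' (fun n => (⟨ν (n + c), hν _⟩ : N)) fun {m n} h => by
    rw [SModEq.sub_mem, hsmul]
    show ν (m + c) - ν (n + c) ∈ _
    refine hAR m _ (sub_mem (hν _) (hν _)) ?_
    rw [show ν (m + c) - ν (n + c) = (s (n + c) - e₀ - ν (n + c)) - (s (m + c) - e₀ - ν (m + c)) +
      (s (m + c) - s (n + c)) by ring]
    exact add_mem (sub_mem (Ideal.pow_le_pow_right (by omega) (hνJ _)) (hνJ _)) (hs' (by omega))
  refine ⟨e₀ + L, fun n => ?_⟩
  rw [SModEq.sub_mem, smul_eq_mul, Ideal.mul_top]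
  have h1 : ν (n + c) - (L : E) ∈ J ^ n := by
    have := hL n
    rw [SModEq.sub_mem, hsmul] at this
    exact (Submodule.smul_le.2 fun j hj m _ => Ideal.mul_mem_right m _ hj) this
  rw [show s n - (e₀ + (L : E)) = (s n - s (n + c)) + (s (n + c) - e₀ - ν (n + c)) + (ν (n + c) - L) by ring]
  exact add_mem (add_mem (hs' (by omega)) (Ideal.pow_le_pow_right (by omega) (hνJ _))) h1

theorem exists_lift_fin {R : Type u} [CommRing R] {n : ℕ}
    {A : Type w} {E : Type w'} [CommRing A] [CommRing E] [Algebra R A] [Algebra R E]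
    [IsNoetherianRing A] [IsLocalRing A] [IsAdicComplete (maximalIdeal A) A]
    (π : MvPowerSeries (Fin n) R →ₐ[R] A) (hπ : Function.Surjective π)
    (f : E →ₐ[R] A) (hf : Function.Surjective f)
    (hsq : RingHom.ker f.toRingHom ^ 2 = ⊥) (hfg : (RingHom.ker f.toRingHom).FG) :
    ∃ l : MvPowerSeries (Fin n) R →ₐ[R] E, f.comp l = π := by
  let N := RingHom.ker f.toRingHom
  let q : (E ⧸ N) ≃+* A := RingHom.quotientKerEquivOfSurjective (f := f.toRingHom) hf
  haveI : IsNoetherianRing (E ⧸ N) := isNoetherianRing_of_ringEquiv A q.symm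
  haveI : IsNoetherianRing E := isNoetherianRing_of_nilpotent_ideal N hfg ⟨2, hsq⟩
  let J : Ideal E := (maximalIdeal A).comap f.toRingHom
  have hJ : J ≤ (⊥ : Ideal E).jacobson := by
    intro x hx
    rw [Ideal.mem_jacobson_bot]
    intro y
    have h1 : IsUnit (f (x * y + 1)) := by
      rw [map_add, map_one, map_mul]
      refine IsLocalRing.notMem_maximalIdeal.1 fun hh => ?_
      exact (maximalIdeal.isMaximal A).ne_top ((Ideal.eq_top_iff_one _).2
        (by simpa using sub_mem hh (Ideal.mul_mem_right (f y) _ (show f x ∈ maximalIdeal A from hx))))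
    obtain ⟨z, hz⟩ := hf ↑h1.unit⁻¹
    have h2 : (x * y + 1) * z - 1 ∈ N := by
      show f _ = 0
      rw [map_sub, map_mul, map_one, hz, IsUnit.mul_val_inv, sub_self]
    have h3 : IsUnit ((x * y + 1) * z) := by
      have h4 : IsNilpotent ((x * y + 1) * z - 1) := ⟨2, by
        have := Ideal.pow_mem_pow h2 2
        rw [hsq] at this
        exact this⟩
      simpa using h4.isUnit_add_one
    exact isUnit_of_mul_isUnit_left h3
  letI : Algebra A (E ⧸ N) := q.symm.toRingHom.toAlgebra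
  haveI : IsAdicComplete (maximalIdeal A) (E ⧸ N) := by
    refine Groth.Agent.Hens.isAdicComplete_of_retract (maximalIdeal A) (N := A)
      ({ toFun := q, map_add' := map_add q, map_smul' := fun a x => ?_ } : (E ⧸ N) →ₗ[A] A)
      (Algebra.linearMap A (E ⧸ N)) ?_
    · show q (q.symm a * x) = a * q x
      rw [map_mul, RingEquiv.apply_symm_apply]
    · ext x; exact q.symm_apply_apply x
  have hJm : J.map (Ideal.Quotient.mk N) = (maximalIdeal A).map (algebraMap A (E ⧸ N)) := by
    ext x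
    obtain ⟨y, rfl⟩ := Ideal.Quotient.mk_surjective x
    rw [Ideal.mem_map_iff_of_surjective _ Ideal.Quotient.mk_surjective,
      Ideal.mem_map_iff_of_surjective (algebraMap A (E ⧸ N)) q.symm.surjective]
    constructor
    · rintro ⟨j, hj, hjy⟩
      refine ⟨f j, hj, ?_⟩
      rw [← hjy]
      exact q.symm_apply_eq.2 rfl
    · rintro ⟨a, ha, hay⟩
      obtain ⟨j, rfl⟩ := hf a
      exact ⟨j, ha, ((q.symm_apply_eq.2 rfl : q.symm (f j) = Ideal.Quotient.mk N j)).symm.trans hay⟩
  haveI : IsAdicComplete (J.map (Ideal.Quotient.mk N)) (E ⧸ N) := by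
    rw [hJm]; exact (IsAdicComplete.map_algebraMap_iff _ _).2 inferInstance
  haveI := isAdicComplete_of_sq_zero N J hsq hJ
  have hXm : ∀ i, π (MvPowerSeries.X i) ∈ maximalIdeal A := by
    intro i
    rw [mem_maximalIdeal]
    intro hu
    obtain ⟨F, hF⟩ := hπ ↑hu.unit⁻¹
    have h1 : π (1 - MvPowerSeries.X i * F) = 0 := by
      rw [map_sub, map_mul, map_one, hF, IsUnit.mul_val_inv, sub_self]
    have h2 : IsUnit (1 - MvPowerSeries.X i * F) :=
      MvPowerSeries.isUnit_iff_constantCoeff.2 (by simp)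
    exact not_isUnit_zero (h1 ▸ h2.map π)
  choose e he using fun i => hf (π (MvPowerSeries.X i))
  obtain ⟨l, hl⟩ := Groth.Agent.H2Alg.PSHom.exists_algHom (A := R) J e fun i => by
    show f (e i) ∈ maximalIdeal A
    rw [he]; exact hXm i
  refine ⟨l, AlgHom.ext fun F => ?_⟩
  rw [← sub_eq_zero]
  refine IsHausdorff.haus (inferInstance : IsHausdorff (maximalIdeal A) A) _ fun m => ?_
  rw [SModEq.zero, smul_eq_mul, Ideal.mul_top, ← Ideal.Quotient.eq_zero_iff_mem, map_sub, sub_eq_zero]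
  let p := Ideal.Quotient.mkₐ R (maximalIdeal A ^ m)
  let V : Ideal (MvPowerSeries (Fin n) R) := Ideal.span (Set.range fun i => MvPowerSeries.X i)
  have hk : ∀ ψ : MvPowerSeries (Fin n) R →ₐ[R] A, (∀ i, ψ (MvPowerSeries.X i) ∈ maximalIdeal A) →
      ∀ x ∈ V ^ m, p.comp ψ x = 0 := by
    intro ψ hψ x hx
    show Ideal.Quotient.mk _ (ψ x) = 0
    rw [Ideal.Quotient.eq_zero_iff_mem]
    have h1 : V.map ψ ≤ maximalIdeal A := by
      rw [Ideal.map_span, Ideal.span_le]
      rintro _ ⟨_, ⟨i, rfl⟩, rfl⟩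
      exact hψ i
    have := Ideal.mem_map_of_mem ψ hx
    rw [Ideal.map_pow] at this
    exact Ideal.pow_right_mono h1 m this
  have heq : p.comp (f.comp l) = p.comp π := Groth.Agent.AdicSmooth.algHom_eq_of_forall_X (I := V)
    (fun i => Ideal.subset_span ⟨i, rfl⟩)
    ⟨m, hk _ fun i => by rw [AlgHom.comp_apply, hl, he]; exact hXm i⟩ ⟨m, hk _ hXm⟩
    fun i => by simp [hl, he]
  exact congr($heq F)

theorem exists_lift {R : Type u} [CommRing R] {σ : Type v} [Finite σ]
    {A : Type w} {E : Type w'} [CommRing A] [CommRing E] [Algebra R A] [Algebra R E]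
    [IsNoetherianRing A] [IsLocalRing A] [IsAdicComplete (maximalIdeal A) A]
    (π : MvPowerSeries σ R →ₐ[R] A) (hπ : Function.Surjective π)
    (f : E →ₐ[R] A) (hf : Function.Surjective f)
    (hsq : RingHom.ker f.toRingHom ^ 2 = ⊥) (hfg : (RingHom.ker f.toRingHom).FG) :
    ∃ l : MvPowerSeries σ R →ₐ[R] E, f.comp l = π := by
  obtain ⟨n, ⟨e⟩⟩ := Finite.exists_equiv_fin σ
  let E' := MvPowerSeries.renameEquiv (R := R) e
  obtain ⟨l, hl⟩ := exists_lift_fin (π.comp E'.symm.toAlgHom) (hπ.comp E'.symm.surjective) f hf hsq hfg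
  refine ⟨l.comp E'.toAlgHom, ?_⟩
  rw [← AlgHom.comp_assoc, hl]
  ext x; simp

end Groth.Agent.SqZeroExt1
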